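import Mathlib
import Groth.Prelude.Def_Coh
import Groth.Prelude.Def_TorSh
import Groth.Agent.Lib.Lead.Misc2.TFDense

/-! helper8: stalks of modules over a (noncommutative) sheaf of algebras on a scheme; a nonzero
morphism of torsion-free modules with simple generic stalk is a monomorphism (S15075). -/

set_option autoImplicit false

universe u

open CategoryTheory Limits AlgebraicGeometry TopologicalSpace Opposite

namespace Groth.Agent.H8.OrdSt

section general

variable {T : TopCat.{u}} {R : T.Presheaf RingCat.{u}}

/-- the map induced on stalks by a morphism of presheaves of modules. -/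
noncomputable def stalkFun {M N : PresheafOfModules.{u} R} (f : M ⟶ N) (x : T) :
    ((TopCat.Presheaf.stalk (C := Ab.{u}) M.presheaf x : Ab.{u}) : Type u) →+
      ((TopCat.Presheaf.stalk (C := Ab.{u}) N.presheaf x : Ab.{u}) : Type u) :=
  ((TopCat.Presheaf.stalkFunctor Ab x).map ((PresheafOfModules.toPresheaf R).map f)).hom

lemma stalkFun_germ {M N : PresheafOfModules.{u} R} (f : M ⟶ N) (x : T) (U : Opens T)
    (hx : x ∈ U) (s : M.obj (op U)) :
    stalkFun f x (TopCat.Presheaf.germ M.presheaf U x hx s) =
      TopCat.Presheaf.germ N.presheaf U x hx (f.app (op U) s) := by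
  exact ConcreteCategory.congr_hom (TopCat.Presheaf.stalkFunctor_map_germ U x hx
    ((PresheafOfModules.toPresheaf R).map f)) s

lemma exists_common_germ (M : PresheafOfModules.{u} R) (x : T) (a : R.stalk x)
    (m : ((TopCat.Presheaf.stalk (C := Ab.{u}) M.presheaf x : Ab.{u}) : Type u)) :
    ∃ (W : Opens T) (hW : x ∈ W) (a' : R.obj (op W)) (m' : M.obj (op W)),
      a = R.germ W x hW a' ∧ m = TopCat.Presheaf.germ M.presheaf W x hW m' := by
  obtain ⟨U, hxU, a', rfl⟩ := TopCat.Presheaf.germ_exist R a
  obtain ⟨V, hxV, m', rfl⟩ := TopCat.Presheaf.germ_exist M.presheaf m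
  have hW : x ∈ U ⊓ V := ⟨hxU, hxV⟩
  refine ⟨U ⊓ V, hW, R.map (homOfLE inf_le_left).op a', M.presheaf.map (homOfLE inf_le_right).op m',
    ?_, ?_⟩
  · exact (TopCat.Presheaf.germ_res_apply R (homOfLE inf_le_left) x hW a').symm
  · exact (TopCat.Presheaf.germ_res_apply M.presheaf (homOfLE inf_le_right) x hW m').symm

/-- the map induced on stalks by a morphism of presheaves of modules, as a linear map over the
stalk of the presheaf of rings. -/
noncomputable def stalkLin {M N : PresheafOfModules.{u} R} (f : M ⟶ N) (x : T) :
    ((TopCat.Presheaf.stalk (C := Ab.{u}) M.presheaf x : Ab.{u}) : Type u) →ₗ[R.stalk x]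
      ((TopCat.Presheaf.stalk (C := Ab.{u}) N.presheaf x : Ab.{u}) : Type u) where
  toFun m := stalkFun f x m
  map_add' a b := map_add _ a b
  map_smul' a m := by
    obtain ⟨W, hW, a', m', rfl, rfl⟩ := exists_common_germ M x a m
    simp only [RingHom.id_apply]
    rw [← PresheafOfModules.germ_ringCat_smul, stalkFun_germ, stalkFun_germ,
      ← PresheafOfModules.germ_ringCat_smul]
    congr 1
    exact (f.app (op W)).hom.map_smul _ _

lemma stalkLin_germ {M N : PresheafOfModules.{u} R} (f : M ⟶ N) (x : T) (U : Opens T)
    (hx : x ∈ U) (s : M.obj (op U)) :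
    stalkLin f x (TopCat.Presheaf.germ M.presheaf U x hx s) =
      TopCat.Presheaf.germ N.presheaf U x hx (f.app (op U) s) :=
  stalkFun_germ f x U hx s

end general

section scheme

variable {X : Scheme.{u}}

lemma generic_mem [IsIntegral X] {V : X.Opens} {y : X} (hy : y ∈ V) : genericPoint X ∈ V :=
  (genericPoint_specializes y).mem_open V.isOpen hy

/-- a section of a torsion-free quasi-coherent module on an integral locally Noetherian scheme
whose germ at the generic point vanishes is zero. -/
theorem section_eq_zero_of_generic [IsIntegral X] [IsLocallyNoetherian X]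
    (F : X.Modules) [F.IsQuasicoherent] (htF : TorSh.IsTorsionFree F) (V : X.Opens) (s : Γ(F, V))
    (h : ∀ hη : genericPoint X ∈ V, F.presheaf.germ V (genericPoint X) hη s = 0) : s = 0 := by
  by_cases hη : genericPoint X ∈ V
  · have h0 := h hη
    obtain ⟨W, hηW, i1, i2, hres⟩ := TopCat.Presheaf.germ_eq F.presheaf (genericPoint X) hη hη s 0
      (by rw [h0, map_zero])
    apply Groth.Agent.LD.TFDense.section_eq_zero_of_dense F htF W ?_ V s
    · intro y hyV hyW
      rw [← TopCat.Presheaf.germ_res_apply F.presheaf i1 y hyW s, hres, map_zero, map_zero]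
    · exact W.isOpen.dense ⟨_, hηW⟩
  · apply Groth.Agent.LD.TFDense.section_eq_zero_of_dense F htF ⊤ (by simp) V s
    intro y hyV _
    exact absurd (generic_mem hyV) hη

theorem mono_of_injective_app {A : Sheaf (Opens.grothendieckTopology X) RingCat.{u}}
    {M N : SheafOfModules.{u} A} (ψ : M ⟶ N)
    (h : ∀ W : (Opens X)ᵒᵖ, Function.Injective (ψ.val.app W)) : Mono ψ := by
  have h1 : Mono ((SheafOfModules.toSheaf A ⋙ sheafToPresheaf _ _).map ψ) := by
    have : ∀ W, Mono (((SheafOfModules.toSheaf A ⋙ sheafToPresheaf _ _).map ψ).app W) :=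
      fun W => by
        rw [AddCommGrpCat.mono_iff_injective]
        exact h W
    exact NatTrans.mono_of_mono_app _
  exact (SheafOfModules.toSheaf A ⋙ sheafToPresheaf _ _).mono_of_mono_map h1

theorem mono_of_simple [IsIntegral X] [IsLocallyNoetherian X]
    (A : Sheaf (Opens.grothendieckTopology X) RingCat.{u}) (φ : X.ringCatSheaf ⟶ A)
    (M N : SheafOfModules.{u} A)
    (hMq : ((SheafOfModules.restrictScalars φ).obj M).IsQuasicoherent)
    (hNq : ((SheafOfModules.restrictScalars φ).obj N).IsQuasicoherent)
    (hMt : TorSh.IsTorsionFree (X := X) ((SheafOfModules.restrictScalars φ).obj M))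
    (hNt : TorSh.IsTorsionFree (X := X) ((SheafOfModules.restrictScalars φ).obj N))
    (hMη : IsSimpleModule (↑(TopCat.Presheaf.stalk (C := RingCat.{u}) (X := X.carrier) A.obj
      (genericPoint X))) (↑(TopCat.Presheaf.stalk (C := Ab.{u}) (X := X.carrier) M.val.presheaf
      (genericPoint X))))
    (ψ : M ⟶ N) (hψ : ψ ≠ 0) : Mono ψ := by
  let L := stalkLin (R := A.obj) ψ.val (genericPoint X)
  rcases eq_bot_or_eq_top (LinearMap.ker L) with hk | hk
  · apply mono_of_injective_app
    intro W
    rw [injective_iff_map_eq_zero]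
    intro s hs
    have key : (show Γ((SheafOfModules.restrictScalars φ).obj M, W.unop) from s) = 0 := by
      apply section_eq_zero_of_generic _ hMt
      intro hη
      have h1 : L (TopCat.Presheaf.germ M.val.presheaf W.unop (genericPoint X) hη s) = 0 := by
        rw [stalkLin_germ, hs]
        exact map_zero (ConcreteCategory.hom
          (TopCat.Presheaf.germ N.val.presheaf W.unop (genericPoint X) hη))
      have h2 := LinearMap.mem_ker.mpr h1
      rw [hk] at h2
      have h3 := (Submodule.mem_bot _).mp h2
      exact h3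
    exact key
  · exfalso
    apply hψ
    apply SheafOfModules.hom_ext
    apply PresheafOfModules.hom_ext
    intro W
    ext s
    have key : (show Γ((SheafOfModules.restrictScalars φ).obj N, W.unop) from ψ.val.app W s) = 0 := by
      apply section_eq_zero_of_generic _ hNt
      intro hη
      have h1 : TopCat.Presheaf.germ M.val.presheaf W.unop (genericPoint X) hη s ∈
          LinearMap.ker L := by rw [hk]; trivial
      have h2 := LinearMap.mem_ker.mp h1
      rw [stalkLin_germ] at h2
      exact h2
    exact key

end scheme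

end Groth.Agent.H8.OrdSt
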