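import Mathlib
import Groth.Prelude.Def_Coh
import Groth.Prelude.Def_TorSh
import Groth.Prelude.Def_KLin
import Groth.Agent.Lib.Helper8.OrdSt.Stalk

/-! helper8: endomorphisms of a torsion-free module with simple generic stalk over a sheaf of
algebras on a proper integral scheme over an algebraically closed field are scalars (S19505). -/

set_option autoImplicit false

universe u

open CategoryTheory Limits AlgebraicGeometry TopologicalSpace Opposite

namespace Groth.Agent.H8.OrdSt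

variable {X : Scheme.{u}} (A : Sheaf (Opens.grothendieckTopology X) RingCat.{u})
  (φ : X.ringCatSheaf ⟶ A) (M : SheafOfModules.{u} A)

/-- the underlying `O_X`-module. -/
noncomputable abbrev und : X.Modules := (SheafOfModules.restrictScalars φ).obj M

/-- the action of an endomorphism of the underlying module on sections of `M`. -/
noncomputable def appM (Θ : und A φ M ⟶ und A φ M) (U : X.Opens) :
    M.val.obj (op U) → M.val.obj (op U) :=
  fun m => Θ.app U (show Γ(und A φ M, U) from m)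

/-- an endomorphism of the underlying `O_X`-module is `A`-linear. -/
def IsALin (Θ : und A φ M ⟶ und A φ M) : Prop :=
  ∀ (U : X.Opens) (a : A.obj.obj (op U)) (m : M.val.obj (op U)),
    appM A φ M Θ U (a • m) = a • appM A φ M Θ U m

/-- the `A`-linear morphism attached to an `A`-linear endomorphism of the underlying module. -/
noncomputable def toA (Θ : und A φ M ⟶ und A φ M) (hΘ : IsALin A φ M Θ) : M ⟶ M :=
  ⟨PresheafOfModules.homMk (show M.val.presheaf ⟶ M.val.presheaf from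
    (PresheafOfModules.toPresheaf X.ringCatSheaf.obj).map Θ.val) (fun U a m => hΘ U.unop a m)⟩

lemma toA_app (Θ : und A φ M ⟶ und A φ M) (hΘ : IsALin A φ M Θ) (U : X.Opens)
    (m : M.val.obj (op U)) :
    (toA A φ M Θ hΘ).val.app (op U) m = appM A φ M Θ U m := rfl

lemma appM_mul (Θ₁ Θ₂ : End (und A φ M)) (U : X.Opens) (m : M.val.obj (op U)) :
    appM A φ M (Θ₁ * Θ₂) U m = appM A φ M Θ₁ U (appM A φ M Θ₂ U m) := rfl

lemma appM_add (Θ₁ Θ₂ : End (und A φ M)) (U : X.Opens) (m : M.val.obj (op U)) :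
    appM A φ M (Θ₁ + Θ₂) U m = appM A φ M Θ₁ U m + appM A φ M Θ₂ U m := rfl

lemma appM_zero (U : X.Opens) (m : M.val.obj (op U)) :
    appM A φ M (0 : End (und A φ M)) U m = 0 := rfl

lemma appM_one (U : X.Opens) (m : M.val.obj (op U)) :
    appM A φ M (1 : End (und A φ M)) U m = m := rfl

section core

variable (k : Type u) [Field k] [X.Over (Spec (CommRingCat.of k))]

lemma appM_smul_one (c : k) (U : X.Opens) (m : M.val.obj (op U)) :
    appM A φ M (c • (1 : End (und A φ M))) U m =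
      (φ.hom.app (op U) (X.presheaf.map (homOfLE (le_top : U ≤ ⊤)).op
        (Coh.toGlobal (X ↘ Spec (CommRingCat.of k)) c))) • m :=
  KLin.smul_app_apply c (𝟙 (und A φ M)) U _

/-- the subalgebra of `A`-linear endomorphisms. -/
noncomputable def aLinSub
    (hcen : ∀ (U : (Opens X)ᵒᵖ) (s : X.ringCatSheaf.obj.obj U) (a : A.obj.obj U),
      φ.hom.app U s * a = a * φ.hom.app U s) : Subalgebra k (End (und A φ M)) where
  carrier := {Θ | IsALin A φ M Θ}
  mul_mem' := by
    intro Θ₁ Θ₂ h₁ h₂ U a m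
    rw [appM_mul, appM_mul, h₂ U a m, h₁ U a _]
  one_mem' := fun U a m => by rw [appM_one, appM_one]
  add_mem' := by
    intro Θ₁ Θ₂ h₁ h₂ U a m
    rw [appM_add, appM_add, h₁ U a m, h₂ U a m, smul_add]
  zero_mem' := fun U a m => by rw [appM_zero, appM_zero, smul_zero]
  algebraMap_mem' := by
    intro c U a m
    rw [Algebra.algebraMap_eq_smul_one, appM_smul_one, appM_smul_one, ← mul_smul, ← mul_smul,
      hcen]

lemma end_ext (Θ₁ Θ₂ : End (und A φ M))
    (h : ∀ (U : X.Opens) (m : M.val.obj (op U)), appM A φ M Θ₁ U m = appM A φ M Θ₂ U m) :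
    Θ₁ = Θ₂ := by
  refine Scheme.Modules.hom_ext _ _ fun U => ?_
  ext m
  exact h U m

theorem end_eq_smul [IsAlgClosed k] [IsIntegral X] [IsLocallyNoetherian X]
    (hcen : ∀ (U : (Opens X)ᵒᵖ) (s : X.ringCatSheaf.obj.obj U) (a : A.obj.obj U),
      φ.hom.app U s * a = a * φ.hom.app U s)
    (hMq : (und A φ M).IsQuasicoherent)
    (hMt : TorSh.IsTorsionFree (X := X) (und A φ M))
    (hMη : IsSimpleModule (↑(TopCat.Presheaf.stalk (C := RingCat.{u}) (X := X.carrier) A.obj
      (genericPoint X))) (↑(TopCat.Presheaf.stalk (C := Ab.{u}) (X := X.carrier) M.val.presheaf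
      (genericPoint X))))
    [Module.Finite k (End (und A φ M))]
    (ψ : M ⟶ M) :
    ∃ c : k, ∀ (U : X.Opens) (m : M.val.obj (op U)),
      ψ.val.app (op U) m = (φ.hom.app (op U) (X.presheaf.map (homOfLE (le_top : U ≤ ⊤)).op
        (Coh.toGlobal (X ↘ Spec (CommRingCat.of k)) c))) • m := by
  obtain ⟨S, hS⟩ : ∃ S : Subalgebra k (End (und A φ M)), S = aLinSub A φ M k hcen := ⟨_, rfl⟩
  have hmem : ∀ Θ : End (und A φ M), Θ ∈ S ↔ IsALin A φ M Θ := fun Θ => by rw [hS]; rfl
  obtain ⟨Ψ, hΨdef⟩ : ∃ Ψ : End (und A φ M), Ψ = (SheafOfModules.restrictScalars φ).map ψ :=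
    ⟨_, rfl⟩
  have hΨapp : ∀ (U : X.Opens) (m : M.val.obj (op U)), appM A φ M Ψ U m = ψ.val.app (op U) m := by
    intro U m
    rw [hΨdef]
    rfl
  have hΨ : Ψ ∈ S := by
    rw [hmem]
    intro U a m
    rw [hΨapp, hΨapp]
    exact (ψ.val.app (op U)).hom.map_smul a m
  have hne : ¬ (∀ (U : X.Opens) (m : M.val.obj (op U)), m = 0) := by
    intro h0
    haveI := hMη.nontrivial
    obtain ⟨x, y, hxy⟩ := exists_pair_ne (↑(TopCat.Presheaf.stalk (C := Ab.{u}) (X := X.carrier)
      M.val.presheaf (genericPoint X)))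
    apply hxy
    obtain ⟨U, hU, s, rfl⟩ := TopCat.Presheaf.germ_exist M.val.presheaf x
    obtain ⟨V, hV, t, rfl⟩ := TopCat.Presheaf.germ_exist M.val.presheaf y
    have hs : s = 0 := h0 U s
    have ht : t = 0 := h0 V t
    rw [hs, ht, map_zero, map_zero]
  haveI : Nontrivial S := ⟨⟨0, 1, fun h => hne (fun U m => by
    have h1 := congrArg (fun Θ : S => appM A φ M Θ.1 U m) h
    simp only [ZeroMemClass.coe_zero, OneMemClass.coe_one, appM_zero, appM_one] at h1
    exact h1.symm)⟩⟩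
  haveI : NoZeroDivisors S := ⟨fun {Θ₁ Θ₂} h => by
    by_contra hcon
    push_neg at hcon
    obtain ⟨h1, h2⟩ := hcon
    have hΘ₁ := (hmem Θ₁.1).mp Θ₁.2
    have hΘ₂ := (hmem Θ₂.1).mp Θ₂.2
    have hθ₁ : toA A φ M Θ₁.1 hΘ₁ ≠ 0 := fun h0 => h1 (Subtype.ext (end_ext A φ M _ _ (fun U m => by
      rw [← toA_app A φ M Θ₁.1 hΘ₁, h0]
      rfl)))
    have hθ₂ : toA A φ M Θ₂.1 hΘ₂ ≠ 0 := fun h0 => h2 (Subtype.ext (end_ext A φ M _ _ (fun U m => by
      rw [← toA_app A φ M Θ₂.1 hΘ₂, h0]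
      rfl)))
    haveI := mono_of_simple A φ M M hMq hMq hMt hMt hMη _ hθ₁
    haveI := mono_of_simple A φ M M hMq hMq hMt hMt hMη _ hθ₂
    have hcomp : toA A φ M Θ₂.1 hΘ₂ ≫ toA A φ M Θ₁.1 hΘ₁ = 0 := by
      apply SheafOfModules.hom_ext
      apply PresheafOfModules.hom_ext
      intro U
      ext m
      have h3 := congrArg (fun Θ : S => appM A φ M Θ.1 U.unop m) h
      simp only [MulMemClass.coe_mul, ZeroMemClass.coe_zero, appM_zero, appM_mul] at h3
      exact h3
    have h4 : (𝟙 M) ≫ (toA A φ M Θ₂.1 hΘ₂ ≫ toA A φ M Θ₁.1 hΘ₁) =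
        0 ≫ (toA A φ M Θ₂.1 hΘ₂ ≫ toA A φ M Θ₁.1 hΘ₁) := by
      rw [hcomp, comp_zero, comp_zero]
    have h10 : 𝟙 M = 0 := (cancel_mono _).mp h4
    exact hne (fun U m => by
      have h5 := congrArg (fun f : M ⟶ M => f.val.app (op U) m) h10
      exact h5)⟩
  haveI : IsDomain S := NoZeroDivisors.to_isDomain S
  haveI : Module.Finite k S := Module.Finite.of_injective S.val.toLinearMap Subtype.val_injective
  haveI : Algebra.IsIntegral k S := Algebra.IsIntegral.of_finite k S
  obtain ⟨c, hc⟩ := (IsAlgClosed.algebraMap_bijective_of_isIntegral (k := k) (K := S)).2 ⟨Ψ, hΨ⟩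
  refine ⟨c, fun U m => ?_⟩
  have h1 : (algebraMap k (End (und A φ M)) c) = Ψ := congrArg Subtype.val hc
  rw [Algebra.algebraMap_eq_smul_one] at h1
  have h2 := appM_smul_one A φ M k c U m
  rw [h1, hΨapp] at h2
  exact h2

end core

end Groth.Agent.H8.OrdSt
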