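import Mathlib
import Groth.Prelude.Def_Coh
import Groth.Prelude.Def_FlatMod2
import Groth.Agent.Lib.Helper8.OrdSt.Stalk
import Groth.Agent.Lib.Lead.QC.LocFree
import Groth.Agent.Lib.Lead.QC.Coh
import Groth.Agent.Lib.Lead.RS.StalkFF

/-! helper8: a coherent module over a finite locally free sheaf of algebras whose stalks are
projective over the stalks of the algebra is finite locally free over `O_X` (S15076). -/

set_option autoImplicit false

universe u

open CategoryTheory Limits AlgebraicGeometry TopologicalSpace Opposite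

namespace Groth.Agent.H8.OrdSt

attribute [-instance] Groth.Agent.LD.QC.stalkModule

variable {X : Scheme.{u}} (A : Sheaf (Opens.grothendieckTopology X) RingCat.{u})
  (φ : X.ringCatSheaf ⟶ A)

/-- the stalk of the sheaf of rings. -/
abbrev Ast (x : X) : Type u :=
  ↑(TopCat.Presheaf.stalk (C := RingCat.{u}) (X := X.carrier) A.obj x)

/-- the stalk of a sheaf of modules. -/
abbrev Mst (N : SheafOfModules.{u} A) (x : X) : Type u :=
  ↑(TopCat.Presheaf.stalk (C := Ab.{u}) (X := X.carrier) N.val.presheaf x)

/-- the `O_{X,x}`-module structure on the stalk, through `φ`. -/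
noncomputable abbrev modO (N : SheafOfModules.{u} A) (x : X) :
    Module (X.presheaf.stalk x) (Mst A N x) :=
  FlatMod.moduleStalk ((SheafOfModules.restrictScalars φ).obj N) x

/-- the action of a germ of function is the action of some germ of the algebra, uniformly in the
module. -/
theorem exists_smul_eq (x : X) (r : X.presheaf.stalk x) :
    ∃ a : Ast A x, ∀ (N : SheafOfModules.{u} A) (n : Mst A N x),
      letI := modO A φ N x
      r • n = a • n := by
  obtain ⟨U, hxU, r', rfl⟩ := TopCat.Presheaf.germ_exist X.presheaf r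
  refine ⟨TopCat.Presheaf.germ A.obj U x hxU (φ.hom.app (op U) r'), ?_⟩
  intro N n
  obtain ⟨V, hxV, n', rfl⟩ := TopCat.Presheaf.germ_exist N.val.presheaf n
  have hW : x ∈ U ⊓ V := ⟨hxU, hxV⟩
  obtain ⟨r'', hr''⟩ : ∃ r'' : Γ(X, U ⊓ V), r'' = X.presheaf.map (homOfLE inf_le_left).op r' :=
    ⟨_, rfl⟩
  obtain ⟨n'', hn''⟩ : ∃ n'' : N.val.obj (op (U ⊓ V)),
      n'' = N.val.presheaf.map (homOfLE inf_le_right).op n' := ⟨_, rfl⟩
  have e1 : TopCat.Presheaf.germ X.presheaf U x hxU r' =
      TopCat.Presheaf.germ X.presheaf (U ⊓ V) x hW r'' := by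
    rw [hr'']
    exact (TopCat.Presheaf.germ_res_apply X.presheaf (homOfLE inf_le_left) x hW r').symm
  have e2 : TopCat.Presheaf.germ N.val.presheaf V x hxV n' =
      TopCat.Presheaf.germ N.val.presheaf (U ⊓ V) x hW n'' := by
    rw [hn'']
    exact (TopCat.Presheaf.germ_res_apply N.val.presheaf (homOfLE inf_le_right) x hW n').symm
  have e3 : TopCat.Presheaf.germ A.obj U x hxU (φ.hom.app (op U) r') =
      TopCat.Presheaf.germ A.obj (U ⊓ V) x hW (φ.hom.app (op (U ⊓ V)) r'') := by
    rw [← TopCat.Presheaf.germ_res_apply A.obj (homOfLE inf_le_left) x hW, hr'']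
    congr 1
    exact (ConcreteCategory.congr_hom (φ.hom.naturality (homOfLE inf_le_left).op) r').symm
  rw [e1, e2, e3]
  rw [← PresheafOfModules.germ_ringCat_smul]
  exact (Groth.Agent.LD.QC.germ_smul ((SheafOfModules.restrictScalars φ).obj N) x (U ⊓ V) hW
    r'' n'').symm

/-- the germ of `1` in the stalk of the unit module. -/
noncomputable def e1 (x : X) : Mst A (SheafOfModules.unit A) x :=
  TopCat.Presheaf.germ (SheafOfModules.unit A).val.presheaf ⊤ x trivial
    (show ↑((SheafOfModules.unit A).val.obj (op ⊤)) from (1 : A.obj.obj (op ⊤)))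

lemma germ_one (x : X) (U : X.Opens) (hx : x ∈ U) :
    TopCat.Presheaf.germ (SheafOfModules.unit A).val.presheaf U x hx
      (show ↑((SheafOfModules.unit A).val.obj (op U)) from (1 : A.obj.obj (op U))) = e1 A x := by
  unfold e1
  rw [← TopCat.Presheaf.germ_res_apply (SheafOfModules.unit A).val.presheaf (homOfLE le_top) x hx]
  congr 1
  exact (map_one (A.obj.map (homOfLE (le_top : U ≤ ⊤)).op).hom).symm

lemma germ_smul_e1 (x : X) (U : X.Opens) (hx : x ∈ U) (a' : A.obj.obj (op U)) :
    (TopCat.Presheaf.germ A.obj U x hx a' : Ast A x) • e1 A x =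
      TopCat.Presheaf.germ (SheafOfModules.unit A).val.presheaf U x hx
        (show ↑((SheafOfModules.unit A).val.obj (op U)) from a') := by
  rw [← germ_one A x U hx, ← PresheafOfModules.germ_ringCat_smul]
  congr 1
  exact mul_one a'

/-- the stalk of the unit module is free of rank one over the stalk of the algebra. -/
noncomputable def unitEquiv (x : X) : Ast A x ≃ₗ[Ast A x] Mst A (SheafOfModules.unit A) x :=
  LinearEquiv.ofBijective (LinearMap.toSpanSingleton (Ast A x) _ (e1 A x)) (by
    constructor
    · rw [injective_iff_map_eq_zero]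
      intro a ha
      obtain ⟨U, hxU, a', rfl⟩ := TopCat.Presheaf.germ_exist A.obj a
      rw [LinearMap.toSpanSingleton_apply, germ_smul_e1] at ha
      obtain ⟨W, hxW, i1, i2, hres⟩ := TopCat.Presheaf.germ_eq (SheafOfModules.unit A).val.presheaf
        x hxU hxU (show ↑((SheafOfModules.unit A).val.obj (op U)) from a') 0 (by rw [ha, map_zero])
      rw [map_zero] at hres
      rw [← TopCat.Presheaf.germ_res_apply A.obj i1 x hxW a']
      have h0 : A.obj.map i1.op a' = 0 := hres
      rw [h0, map_zero]
    · intro p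
      obtain ⟨U, hxU, p', rfl⟩ :=
        TopCat.Presheaf.germ_exist (SheafOfModules.unit A).val.presheaf p
      exact ⟨TopCat.Presheaf.germ A.obj U x hxU (show A.obj.obj (op U) from p'), by
        rw [LinearMap.toSpanSingleton_apply, germ_smul_e1]⟩)

/-- abstract core: a module projective over a (noncommutative) algebra which is free over the
base is projective over the base, the two actions being compatible. -/
theorem projective_of_compat {O : Type u} [CommRing O] {Ax : Type u} [Ring Ax]
    {M P : Type u} [AddCommGroup M] [AddCommGroup P] [Module Ax M] [Module Ax P]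
    [Module O M] [Module O P]
    (hE : ∀ r : O, ∃ a : Ax, (∀ m : M, r • m = a • m) ∧ (∀ p : P, r • p = a • p))
    (e : Ax ≃ₗ[Ax] P) (hP : Module.Free O P) (hM : Module.Projective Ax M) :
    Module.Projective O M := by
  haveI := hP
  obtain ⟨s, hs⟩ := Module.projective_def'.mp hM
  let E : (M →₀ Ax) ≃ₗ[Ax] (M →₀ P) := Finsupp.mapRange.linearEquiv e
  let i' : M →ₗ[Ax] (M →₀ P) := E.toLinearMap ∘ₗ s
  let π' : (M →₀ P) →ₗ[Ax] M := (Finsupp.linearCombination Ax id) ∘ₗ E.symm.toLinearMap
  have hcomp : ∀ m, π' (i' m) = m := fun m => by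
    have h1 : π' (i' m) = (Finsupp.linearCombination Ax id) (E.symm (E (s m))) := rfl
    rw [h1, LinearEquiv.symm_apply_apply]
    exact LinearMap.congr_fun hs m
  have hsm : ∀ (r : O) (a : Ax), (∀ p : P, r • p = a • p) → ∀ f : M →₀ P, r • f = a • f := by
    intro r a ha f
    ext j
    rw [Finsupp.smul_apply, Finsupp.smul_apply, ha]
  let iO : M →ₗ[O] (M →₀ P) :=
    { toFun := i'
      map_add' := i'.map_add
      map_smul' := fun r m => by
        obtain ⟨a, ha1, ha2⟩ := hE r
        simp only [RingHom.id_apply]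
        rw [ha1, i'.map_smul, hsm r a ha2] }
  let πO : (M →₀ P) →ₗ[O] M :=
    { toFun := π'
      map_add' := π'.map_add
      map_smul' := fun r f => by
        obtain ⟨a, ha1, ha2⟩ := hE r
        simp only [RingHom.id_apply]
        rw [hsm r a ha2, π'.map_smul, ha1] }
  exact Module.Projective.of_split iO πO (LinearMap.ext hcomp)

/-- **S15076**, abstract form. -/
theorem isFinLocFree_of_projective_stalks [IsLocallyNoetherian X]
    (hA : FlatMod.IsFinLocFree (X := X)
      ((SheafOfModules.restrictScalars φ).obj (SheafOfModules.unit A)))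
    (M : SheafOfModules.{u} A)
    (hMc : Coh.IsCoh (X := X) ((SheafOfModules.restrictScalars φ).obj M))
    (hMp : ∀ x : X, Module.Projective (Ast A x) (Mst A M x)) :
    FlatMod.IsFinLocFree (X := X) ((SheafOfModules.restrictScalars φ).obj M) := by
  haveI := hMc.1
  refine Groth.Agent.LD.QC.isFinLocFree_of_free_stalks _
    (Groth.Agent.LD.QC.isFinitePresentation_of_qc_ft _ hMc.1 hMc.2) (fun x => ?_)
  obtain ⟨F, hF⟩ : ∃ F : X.Modules, F = (SheafOfModules.restrictScalars φ).obj M := ⟨_, rfl⟩
  obtain ⟨Q, hQ⟩ : ∃ Q : X.Modules,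
    Q = (SheafOfModules.restrictScalars φ).obj (SheafOfModules.unit A) := ⟨_, rfl⟩
  have hfin : Module.Finite (X.presheaf.stalk x) (F.presheaf.stalk x) :=
    Groth.Agent.LD.RS.finite_stalk _ (hF ▸ hMc) x
  have hPfree : Module.Free (X.presheaf.stalk x) (Q.presheaf.stalk x) :=
    Groth.Agent.LD.QC.free_stalk_of_isFinLocFree _ (hQ ▸ hA) x
  have hproj : Module.Projective (X.presheaf.stalk x) (F.presheaf.stalk x) := by
    subst hF hQ
    letI := modO A φ M x
    letI := modO A φ (SheafOfModules.unit A) x
    exact projective_of_compat (O := X.presheaf.stalk x) (Ax := Ast A x) (M := Mst A M x)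
      (P := Mst A (SheafOfModules.unit A) x)
      (fun r => by
        obtain ⟨a, ha⟩ := exists_smul_eq A φ x r
        exact ⟨a, ha M, ha (SheafOfModules.unit A)⟩)
      (unitEquiv A x) hPfree (hMp x)
  haveI := hproj
  haveI := hfin
  rw [← hF]
  exact Module.free_of_flat_of_isLocalRing

end Groth.Agent.H8.OrdSt
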